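import Groth.Agent.Lib.DGen9.CompactPerf
import Groth.Agent.Lib.DGen9.Affine
import Groth.Agent.Lib.DGen9.Gen
import Mathlib.Data.Countable.Basic

/-! Countability of maps out of perfect objects. -/

set_option autoImplicit false
set_option linter.unusedSectionVars false
set_option linter.style.haveILetI false
set_option backward.isDefEq.respectTransparency false
set_option backward.isDefEq.respectTransparency.types false
set_option maxHeartbeats 800000

universe u w

open CategoryTheory CategoryTheory.Limits AlgebraicGeometry Pretriangulated Opposite ZeroObject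

attribute [local instance] HasDerivedCategory.standard

namespace Groth.Agent.CountD9

theorem countable_of_hom {A B : Type*} [AddCommGroup A] [AddCommGroup B] [Countable B] (f : A →+ B)
    (hk : Countable f.ker) : Countable A := by
  classical
  let σ : B → A := fun b => if h : ∃ a, f a = b then h.choose else 0
  have hσ : ∀ a, f (σ (f a)) = f a := fun a => by
    have h : ∃ a', f a' = f a := ⟨a, rfl⟩
    simp only [σ, dif_pos h]
    exact h.choose_spec
  refine Function.Injective.countable (f := fun a => ((f a, ⟨a - σ (f a), by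
    rw [AddMonoidHom.mem_ker, map_sub, hσ, sub_self]⟩) : B × f.ker)) fun a a' h => ?_
  obtain ⟨h1, h2⟩ := Prod.ext_iff.1 h
  have h3 := congrArg Subtype.val h2
  dsimp only at h1 h3
  rw [h1] at h3
  exact sub_left_inj.1 h3

section Tri

variable {D : Type*} [Category* D] [Preadditive D] [HasZeroObject D] [HasShift D ℤ]
  [∀ n : ℤ, (shiftFunctor D n).Additive] [Pretriangulated D]

theorem countable_hom_obj₂ (T : Triangle D) (hT : T ∈ distTriang D) (L : D)
    (h₁ : Countable (T.obj₁ ⟶ L)) (h₃ : Countable (T.obj₃ ⟶ L)) : Countable (T.obj₂ ⟶ L) := by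
  let f : (T.obj₂ ⟶ L) →+ (T.obj₁ ⟶ L) := AddMonoidHom.mk' (fun g => T.mor₁ ≫ g) fun _ _ => Preadditive.comp_add ..
  refine countable_of_hom f ?_
  refine Function.Surjective.countable (f := fun g : T.obj₃ ⟶ L => (⟨T.mor₂ ≫ g, by
    show T.mor₁ ≫ T.mor₂ ≫ g = 0
    rw [← Category.assoc, comp_distTriang_mor_zero₁₂ _ hT, zero_comp]⟩ : f.ker)) fun x => ?_
  obtain ⟨g, hg⟩ := Triangle.yoneda_exact₂ _ hT x.1 x.2
  exact ⟨g, Subtype.ext hg.symm⟩

end Tri

variable {X : Scheme.{u}}

/-- Countably many maps into every shift of `K`. -/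
def CHom (K A : DCoh.D X) : Prop := ∀ i : ℤ, Countable (A ⟶ K⟦i⟧)

theorem chom_shift {K A : DCoh.D X} (h : CHom K A) (n : ℤ) : CHom K (A⟦n⟧) := fun i => by
  let F := shiftFunctor (DCoh.D X) n
  let e : (A ⟶ K⟦i - n⟧) ≃ (A⟦n⟧ ⟶ K⟦i⟧) := (Functor.FullyFaithful.ofFullyFaithful F).homEquiv.trans
    (Iso.homToEquiv ((shiftFunctorAdd' (DCoh.D X) (i - n) n i (by omega)).app K).symm)
  haveI := h (i - n)
  exact e.symm.injective.countable

theorem extClosed (K : DCoh.D X) : DMV.ExtClosed (CHom K) where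
  iso e h i := by
    haveI := h i
    exact e.homFromEquiv.symm.injective.countable
  zero i := ⟨⟨fun _ => 0, fun a b _ => (isZero_zero _).eq_of_src a b⟩⟩
  ext T hT h₁ h₃ i := countable_hom_obj₂ T hT _ (h₁ i) (h₃ i)

/-- The structure module extended by zero. -/
noncomputable def jjOneIso (W : X.Opens) : (DQC.gen X).obj W ≅ (DMV.jj W).obj (Coh.structureModule X) :=
  DQC.isoOfHomEquiv
    (fun M => ((DMV.adjJ W).homEquiv _ M).trans ((DMV.homOne _).trans
      ((DMV.secEq M (show W.ι ''ᵁ (W.ι ⁻¹ᵁ ⊤) = W by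
        simp [Scheme.Hom.preimage_top, Scheme.Hom.image_top_eq_opensRange])).trans (DQC.genHom W M).symm)))
    fun {M N} a b => by
      apply (DQC.genHom W N).injective
      simp only [Equiv.trans_apply]
      refine ((DQC.genHom W N).apply_symm_apply _).trans (Eq.trans ?_ (DQC.genHom_comp _ _ b).symm)
      refine Eq.trans ?_ (congrArg (b.app W) ((DQC.genHom W M).apply_symm_apply _).symm)
      rw [Adjunction.homEquiv_naturality_right]
      exact DMV.secEq_app b _ _

/-- Countable sections on affine opens. -/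
def CSec (K : DCoh.D X) : Prop :=
  ∀ V : X.Opens, IsAffineOpen V → ∀ i : ℤ, Countable ((DCoh.HD K i).val.obj (op V))

theorem countable_gen_affine {K : DCoh.D X} (hK : DCoh.IsQCohD K) (hc : CSec K) {W : X.Opens} (hW : IsAffineOpen W)
    (m : ℤ) : CHom K ((DerivedCategory.singleFunctor X.Modules m).obj ((DQC.gen X).obj W)) := fun i => by
  haveI : Countable Γ(DCoh.HD K (i + m), W) := hc W hW (i + m)
  let e : DCoh.HD (K⟦i⟧) m ≅ DCoh.HD K (i + m) := ((DerivedCategory.homologyFunctor X.Modules 0).shiftIso i m (i + m) rfl).app K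
  haveI : Countable ((DQC.gen X).obj W ⟶ DCoh.HD (K⟦i⟧) m) :=
    ((Iso.homToEquiv e).trans (DQC.genHom W _)).injective.countable
  exact (DQC.bijective_θ (K⟦i⟧) (DMV.isQCohD_shift K hK i) hW m).1.countable

variable [CompactSpace X] [QuasiSeparatedSpace X]

theorem countable_gen {K : DCoh.D X} (hK : DCoh.IsQCohD K) (hc : CSec K) {W : X.Opens} (hW : IsCompact (W : Set X))
    (m : ℤ) : CHom K (DerivedCategory.Q.obj ((HomologicalComplex.single X.Modules (ComplexShape.up ℤ) m).obj
      ((DQC.gen X).obj W))) := by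
  let sg : X.Modules ⥤ CochainComplex X.Modules ℤ := HomologicalComplex.single X.Modules (ComplexShape.up ℤ) m
  let P : X.Opens → Prop := fun S => CHom K (DerivedCategory.Q.obj (sg.obj ((DQC.gen X).obj S)))
  have haff : ∀ S : X.Opens, IsAffineOpen S → P S := fun S hS =>
    (extClosed K).iso ((DerivedCategory.singleFunctorIsoCompQ X.Modules m).app _) (countable_gen_affine hK hc hS m)
  have glue : ∀ S V : X.Opens, P S → P V → P (S ⊓ V) → P (S ⊔ V) := fun S V hS hV hSV => by
    let Sc := DMV.relSC S V (Coh.structureModule X)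
    have hSc : (Sc.map sg).ShortExact := (DMV.shortExact_relSC S V _).map_of_exact sg
    have h₁ : CHom K (DerivedCategory.Q.obj (sg.obj Sc.X₁)) :=
      (extClosed K).iso (DerivedCategory.Q.mapIso (sg.mapIso (jjOneIso (S ⊓ V)))) hSV
    have h₂ : CHom K (DerivedCategory.Q.obj (sg.obj Sc.X₂)) := DMV.prop_single_biprod (extClosed K) _ _ m
      ((extClosed K).iso (DerivedCategory.Q.mapIso (sg.mapIso (jjOneIso S))) hS)
      ((extClosed K).iso (DerivedCategory.Q.mapIso (sg.mapIso (jjOneIso V))) hV)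
    exact (extClosed K).iso (DerivedCategory.Q.mapIso (sg.mapIso (jjOneIso (S ⊔ V)).symm))
      ((extClosed K).ext₃ (fun A hA => chom_shift hA 1) _ (DerivedCategory.triangleOfSES_distinguished hSc) h₁ h₂)
  have aux : ∀ A : X.Opens, IsAffineOpen A → ∀ (S : (A : Scheme.{u}).Opens), IsCompact (S : Set (A : Scheme.{u})) →
      ∀ V : (A : Scheme.{u}).affineOpens, P (A.ι ''ᵁ (S ⊓ V.1)) := fun A hA S hS => by
    haveI : IsAffine (A : Scheme.{u}) := hA
    refine compact_open_induction_on (P := fun S : (A : Scheme.{u}).Opens =>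
      ∀ V : (A : Scheme.{u}).affineOpens, P (A.ι ''ᵁ (S ⊓ V.1))) S hS (fun V => ?_) fun S hS U hg V => ?_
    · refine haff _ (IsAffineOpen.image_of_isOpenImmersion ?_ A.ι)
      rw [bot_inf_eq]
      exact isAffineOpen_bot _
    · have e1 : A.ι ''ᵁ ((S ⊔ U.1) ⊓ V.1) = A.ι ''ᵁ (S ⊓ V.1) ⊔ A.ι ''ᵁ (U.1 ⊓ V.1) := by
        rw [inf_sup_right]
        exact TopologicalSpace.Opens.ext (Set.image_union _ _ _)
      have e2 : A.ι ''ᵁ (S ⊓ (U.1 ⊓ V.1)) = A.ι ''ᵁ (S ⊓ V.1) ⊓ A.ι ''ᵁ (U.1 ⊓ V.1) := by
        rw [show S ⊓ (U.1 ⊓ V.1) = (S ⊓ V.1) ⊓ (U.1 ⊓ V.1) from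
          le_antisymm (le_inf (le_inf inf_le_left (inf_le_right.trans inf_le_right)) inf_le_right)
            (le_inf (inf_le_left.trans inf_le_left) inf_le_right)]
        exact TopologicalSpace.Opens.ext (Set.image_inter A.ι.isOpenEmbedding.injective)
      rw [e1]
      refine glue _ _ (hg V) (haff _ ((U.2.inf V.2).image_of_isOpenImmersion A.ι)) ?_
      rw [← e2]
      exact hg ⟨U.1 ⊓ V.1, U.2.inf V.2⟩
  refine compact_open_induction_on (P := P) W hW (haff _ (isAffineOpen_bot X))
    fun S hS V hg => glue S V.1 hg (haff _ V.2) ?_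
  haveI : IsAffine (V.1 : Scheme.{u}) := V.2
  haveI := DGen9.quasiCompact_ι (W := V.1) V.2.isCompact
  have h := aux V.1 V.2 (V.1.ι ⁻¹ᵁ S) (Scheme.Hom.isCompact_preimage _ (U := S) hS) ⟨⊤, isAffineOpen_top _⟩
  rwa [inf_top_eq, Scheme.Hom.image_preimage_eq_opensRange_inf, Scheme.Opens.opensRange_ι, inf_comm] at h

/-- Maps from a perfect object to an object with countable sections. -/
theorem countable_hom_perfect {K : DCoh.D X} (hK : DCoh.IsQCohD K) (hc : CSec K) {E : DCoh.D X}
    (hE : DCoh.IsPerfect E) : CHom K E :=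
  DMV.perfect_induction (P := CHom K) (extClosed K) (fun W hW m => countable_gen hK hc hW m)
    (fun A hA => chom_shift hA 1) E hE

omit [CompactSpace X] [QuasiSeparatedSpace X] in
/-- Countable sections restrict. -/
theorem csec_resD {Z : Scheme.{u}} (j : Z ⟶ X) [IsOpenImmersion j] {K : DCoh.D X} (hc : CSec K) :
    CSec ((DPerf.resD j).obj K) := fun V hV i => by
  haveI : Countable ((DCoh.HD K i).val.obj (op (j ''ᵁ V))) := hc _ (hV.image_of_isOpenImmersion j) i
  let e := ((DPerf.hdResIso j K i).hom.app V)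
  let e' := ((DPerf.hdResIso j K i).inv.app V)
  haveI : Countable ↑Γ((DCoh.HD K i).restrict j, V) := ‹Countable ((DCoh.HD K i).val.obj (op (j ''ᵁ V)))›
  refine Function.Injective.countable (f := fun s => e s) (fun s t h => ?_)
  have h' := congrArg (fun z => e' z) h
  simpa [e, e', ← ConcreteCategory.comp_apply, ← Scheme.Modules.Hom.comp_app] using h'

end Groth.Agent.CountD9
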