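import Groth.Agent.Lib.CountD9.Basic
import Groth.Agent.Lib.DGen9.Classical
import Groth.Agent.Lib.DGen9.PerfPush
import Groth.Agent.Lib.DCompact9.Seq
import Groth.Agent.Lib.LocCohZ.DepthVanish
import Groth.Agent.Lib.RHom.Compact
import Groth.Prelude.Def_DerLim

/-! Homotopy colimits of perfect objects and countability. -/

set_option autoImplicit false
set_option linter.unusedSectionVars false
set_option linter.style.haveILetI false
set_option backward.isDefEq.respectTransparency false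
set_option backward.isDefEq.respectTransparency.types false
set_option maxHeartbeats 800000

universe u

open CategoryTheory CategoryTheory.Limits AlgebraicGeometry Pretriangulated Opposite ZeroObject

attribute [local instance] HasDerivedCategory.standard

namespace Groth.Agent.CountD9

variable {X : Scheme.{u}}

theorem isPerfect_genTop (X : Scheme.{u}) :
    DCoh.IsPerfect (DCoh.inD X ((DQC.gen X).obj ⊤)) := by
  have h : FlatMod.IsFinLocFree ((DQC.gen X).obj ⊤) := by
    let e : FlatMod.freeMod X 1 ≅ (DQC.gen X).obj ⊤ :=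
      (coproductUniqueIso fun _ : Fin 1 => Coh.structureModule X) ≪≫ RHom.topIso
    exact M2.isFinLocFree_of_iso e (KFlat.Sch.isFinLocFree_freeMod X 1)
  exact DPerf.isPerfect_iff_approx.2 (DPerf.approx_inD_of_isFinLocFree h)

/-- On an affine scheme with countable functions, perfect objects have countable classes. -/
theorem countable_top_of_isPerfect [IsAffine X] (hX : Countable Γ(Coh.structureModule X, ⊤)) {E : DCoh.D X}
    (hE : DCoh.IsPerfect E) (m : ℤ) :
    Countable ((DerivedCategory.singleFunctor X.Modules m).obj ((DQC.gen X).obj ⊤) ⟶ E) := by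
  let G := (DQC.gen X).obj ⊤
  let S : ℤ → DCoh.D X := fun m => (DerivedCategory.singleFunctor X.Modules m).obj G
  let A : DCoh.D X → Prop := fun E => ∀ m, Countable (S m ⟶ E)
  have hA : DGen9.ThickClass A := {
    iso := fun e h m => by haveI := h m; exact e.homToEquiv.symm.injective.countable
    zero := fun m => ⟨⟨fun _ => 0, fun a b _ => (isZero_zero _).eq_of_tgt a b⟩⟩
    ext := fun T hT h₁ h₃ m => by
      haveI := h₁ m; haveI := h₃ m
      let f : (S m ⟶ T.obj₂) →+ (S m ⟶ T.obj₃) :=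
        AddMonoidHom.mk' (fun g => g ≫ T.mor₂) fun _ _ => Preadditive.add_comp ..
      refine countable_of_hom f (Function.Surjective.countable (f := fun g : S m ⟶ T.obj₁ => (⟨g ≫ T.mor₁, by
        show (g ≫ T.mor₁) ≫ T.mor₂ = 0
        rw [Category.assoc, comp_distTriang_mor_zero₁₂ _ hT, comp_zero]⟩ : f.ker)) fun x => ?_)
      obtain ⟨g, hg⟩ := Triangle.coyoneda_exact₂ _ hT x.1 x.2
      exact ⟨g, Subtype.ext hg.symm⟩
    shift := fun K n h m => by
      haveI := h (m + n)
      let e : (S (m + n))⟦n⟧ ≅ S m :=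
        ((DerivedCategory.singleFunctors X.Modules).shiftIso n m (m + n) (add_comm n m)).app G
      exact (((Functor.FullyFaithful.ofFullyFaithful (shiftFunctor (DCoh.D X) n)).homEquiv).trans
        e.homFromEquiv).symm.injective.countable
    retract := fun i r hir h m => by
      haveI := h m
      exact Function.Injective.countable (f := fun g => g ≫ i) fun a b hab => by
        have := congrArg (· ≫ r) hab
        simpa [hir] using this }
  have hG : Coh.IsQCoh G := M1.isQCoh_of_isIso RHom.topIso (M1.isQCoh_structureModule X)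
  have hGq : DCoh.IsQCohD (DCoh.inD X G) := DGen9.isQCohD_of_isPerfect (isPerfect_genTop X)
  haveI : Countable Γ(G, ⊤) := by
    haveI := hX
    exact Function.Injective.countable (f := fun s => (RHom.topIso (X := X)).inv.app ⊤ s) fun s t h => by
      have := congrArg (fun z => (RHom.topIso (X := X)).hom.app ⊤ z) h
      simpa [← ConcreteCategory.comp_apply, ← Scheme.Modules.Hom.comp_app] using this
  refine DGen9.mem_of_isPerfect hA (isPerfect_genTop X) (fun Q hQ h => ?_) ?_ hE m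
  · suffices hz : ∀ i, IsZero (DCoh.HD Q i) by
      haveI : IsIso (0 : Q ⟶ (0 : DCoh.D X)) := (DerivedCategory.isIso_iff X.Modules _).2 fun i =>
        isIso_of_source_target_iso_zero _ (hz i).isoZero
          ((DerivedCategory.homologyFunctor X.Modules i).map_isZero (isZero_zero _)).isoZero
      exact (isZero_zero _).of_iso (asIso (0 : Q ⟶ (0 : DCoh.D X)))
    intro i
    haveI : Coh.IsQCoh (DCoh.HD Q i) := hQ i
    let e : (DCoh.inD X G)⟦-i⟧ ≅ S i :=
      ((DerivedCategory.singleFunctors X.Modules).shiftIso (-i) i 0 (by omega)).app G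
    haveI : Subsingleton (S i ⟶ Q) := ⟨fun a b => (cancel_epi e.hom).1 ((h (-i) _).trans (h (-i) _).symm)⟩
    haveI : Subsingleton (G ⟶ DCoh.HD Q i) := (DQC.bijective_θ Q hQ (isAffineOpen_top X) i).2.subsingleton
    exact LocCohZQ.isZero_of_sections_top _ fun t => (DQC.genHom ⊤ _).symm.injective (Subsingleton.elim _ _)
  · intro m
    haveI : Countable (G ⟶ DCoh.HD (DCoh.inD X G) m) := by
      by_cases hm : m = 0
      · subst hm
        exact ((Iso.homToEquiv (DPerf.hdInDIso G)).trans (DQC.genHom ⊤ G)).injective.countable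
      · exact ⟨⟨fun _ => 0, fun a b _ => (DPerf.isZero_HD_inD G hm).eq_of_tgt a b⟩⟩
    exact (DQC.bijective_θ _ hGq (isAffineOpen_top X) m).1.countable

/-- Perfect objects have countable sections. -/
theorem csec_of_isPerfect (hX : ∀ U : X.Opens, IsAffineOpen U → Countable (X.presheaf.obj (op U)))
    {E : DCoh.D X} (hE : DCoh.IsPerfect E) : CSec E := fun V hV i => by
  haveI : IsAffine (V : Scheme.{u}) := hV
  let Z := (V : Scheme.{u})
  have hV' : IsAffineOpen (V.ι ''ᵁ (⊤ : Z.Opens)) := (isAffineOpen_top Z).image_of_isOpenImmersion V.ι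
  haveI : Countable Γ(Coh.structureModule Z, ⊤) := hX _ hV'
  haveI := countable_top_of_isPerfect (X := Z) inferInstance (DGen9.isPerfect_resD V.ι hE) i
  haveI : Countable Γ(DCoh.HD ((DPerf.resD V.ι).obj E) i, ⊤) := by
    haveI : Countable ((DQC.gen Z).obj ⊤ ⟶ DCoh.HD ((DPerf.resD V.ι).obj E) i) :=
      (DQC.bijective_θ _ (DQC.isQCohD_resD V.ι (DGen9.isQCohD_of_isPerfect hE)) (isAffineOpen_top Z) i).2.countable
    exact (DQC.genHom ⊤ _).symm.injective.countable
  have h : Countable Γ(DCoh.HD E i, V.ι ''ᵁ (⊤ : Z.Opens)) := by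
    refine Function.Injective.countable (f := fun s => ((DPerf.hdResIso V.ι E i).inv.app ⊤) s) fun s t hst => ?_
    have := congrArg (fun z => ((DPerf.hdResIso V.ι E i).hom.app ⊤) z) hst
    simpa [← ConcreteCategory.comp_apply, ← Scheme.Modules.Hom.comp_app] using this
  rwa [Scheme.Hom.image_top_eq_opensRange, Scheme.Opens.opensRange_ι] at h

variable [CompactSpace X] [QuasiSeparatedSpace X] [HasColimitsOfShape (Discrete ℕ) (DCoh.D X)]

theorem finFac_nat {A : DCoh.D X} (hA : DGen9.QFin A) (Y : ℕ → DCoh.D X) (hY : ∀ n, DCoh.IsQCohD (Y n))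
    (f : A ⟶ ∐ Y) : DPush.FinFac Y f := by
  haveI := DGen9.hasCoproducts_D X (ULift.{u} ℕ)
  let w : (∐ fun i : ULift.{u} ℕ => Y i.down) ⟶ ∐ Y :=
    Sigma.desc fun i => (Iso.refl (Y i.down)).hom ≫ Sigma.ι Y i.down
  let w' : ∐ Y ⟶ ∐ fun i : ULift.{u} ℕ => Y i.down :=
    Sigma.desc fun k => Sigma.ι (fun i : ULift.{u} ℕ => Y i.down) ⟨k⟩
  have hww : w' ≫ w = 𝟙 _ := Sigma.hom_ext _ _ fun k => by simp [w, w']
  have := RHom.finFac_whisker Y (fun i : ULift.{u} ℕ => Y i.down) Equiv.ulift (fun i => Iso.refl _) _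
    (hA _ _ (fun i : ULift.{u} ℕ => hY i.down) (f ≫ w'))
  rw [show f = (f ≫ w') ≫ w by rw [Category.assoc, hww, Category.comp_id]]
  exact this

/-- A homotopy colimit of perfect objects has countable sections. -/
theorem csec_of_isHocolim (hX : ∀ U : X.Opens, IsAffineOpen U → Countable (X.presheaf.obj (op U))) {K : DCoh.D X}
    (hK : DCoh.IsQCohD K) (E : ℕ → DCoh.D X) (f : ∀ n, E n ⟶ E (n + 1)) (i : ∀ n, E n ⟶ K)
    (hE : ∀ n, DCoh.IsPerfect (E n)) (h : DerLim.IsHocolim E f K i) : CSec K := fun W hW m => by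
  let F : ℕ ⥤ DCoh.D X := Functor.ofSequence f
  have hF : (fun n => F.map (homOfLE (Nat.le_succ n))) = f := funext fun n => Functor.ofSequence_map_homOfLE_succ f n
  have hL : DerLim.IsHocolim F.obj (fun n => F.map (homOfLE (Nat.le_succ n))) K i := by rw [hF]; exact h
  have hQ : ∀ n, DCoh.IsQCohD (F.obj n) := fun n => DGen9.isQCohD_of_isPerfect (hE n)
  let S := (DerivedCategory.singleFunctor X.Modules m).obj ((DQC.gen X).obj W)
  have hS : DGen9.QFin S := fun ι Y _ hY g => DGen9.finFac_gen hW.isCompact Y hY m g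
  have hS' : DGen9.QFin (S⟦(-1 : ℤ)⟧) := DGen9.qFin_shift hS _
  have H := DCompact9.hom_hocolim F hL S (finFac_nat hS _ hQ) (finFac_nat hS' _ hQ)
  haveI : ∀ n, Countable (S ⟶ F.obj n) := fun n => by
    haveI : Countable Γ(DCoh.HD (E n) m, W) := csec_of_isPerfect hX (hE n) W hW m
    haveI : Countable ((DQC.gen X).obj W ⟶ DCoh.HD (E n) m) := (DQC.genHom W _).injective.countable
    exact (DQC.bijective_θ (E n) (hQ n) hW m).1.countable
  haveI : Countable (S ⟶ K) := Function.Surjective.countable (f := fun p : Σ n, (S ⟶ F.obj n) => p.2 ≫ i p.1)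
    fun x => by obtain ⟨n, y, hy⟩ := H.1 x; exact ⟨⟨n, y⟩, hy⟩
  haveI : Countable ((DQC.gen X).obj W ⟶ DCoh.HD K m) := (DQC.bijective_θ K hK hW m).2.countable
  exact (DQC.genHom W (DCoh.HD K m)).symm.injective.countable

section Build

variable (G : DCoh.D X) {K : DCoh.D X}

/-- Classes killed in `K`. -/
abbrev Ker {E : DCoh.D X} (e : E ⟶ K) := Σ n : ℤ, {y : G⟦n⟧ ⟶ E // y ≫ e = 0}

/-- Transport of a killed class. -/
noncomputable def Ker.push {E E' : DCoh.D X} {e : E ⟶ K} {e' : E' ⟶ K} (t : E ⟶ E') (ht : t ≫ e' = e) (p : Ker G e) : Ker G e' :=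
  ⟨p.1, p.2.1 ≫ t, by rw [Category.assoc, ht]; exact p.2.2⟩

/-- Stages of the construction. -/
structure St (K : DCoh.D X) where
  E : DCoh.D X
  e : E ⟶ K
  perf : DCoh.IsPerfect E
  todo : ℕ → ℕ → Ker G e

end Build

/-- An object with countable sections is a homotopy colimit of perfect objects. -/
theorem exists_isHocolim (hX : ∀ U : X.Opens, IsAffineOpen U → Countable (X.presheaf.obj (op U))) {K : DCoh.D X}
    (hK : DCoh.IsQCohD K) (hc : CSec K) :
    ∃ (E : ℕ → DCoh.D X) (f : ∀ n, E n ⟶ E (n + 1)) (i : ∀ n, E n ⟶ K),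
      (∀ n, DCoh.IsPerfect (E n)) ∧ DerLim.IsHocolim E f K i := by
  classical
  obtain ⟨G, hG, -, -, hgen⟩ := DGen9.exists_generator_qcqs X Set.univ isClosed_univ
    (by rw [Set.compl_univ]; exact isCompact_empty)
  have hGn : ∀ n : ℤ, DCoh.IsPerfect (G⟦n⟧) := fun n => DGen9.isPerfect_shiftD hG n
  have hcount : ∀ {M : DCoh.D X}, DCoh.IsQCohD M → CSec M → ∀ n : ℤ, Countable (G⟦n⟧ ⟶ M) := fun {M} hM hcM n => by
    haveI := countable_hom_perfect hM hcM (hGn n) 0
    exact ((shiftFunctorZero (DCoh.D X) ℤ).app M).homToEquiv.symm.injective.countable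
  haveI : ∀ n, Countable (G⟦n⟧ ⟶ K) := hcount hK hc
  haveI : Nonempty (Σ n : ℤ, (G⟦n⟧ ⟶ K)) := ⟨⟨0, 0⟩⟩
  obtain ⟨g, hg⟩ := exists_surjective_nat (Σ n : ℤ, (G⟦n⟧ ⟶ K))
  have henum : ∀ {E : DCoh.D X}, DCoh.IsPerfect E → ∀ e : E ⟶ K, ∃ r : ℕ → Ker G e, Function.Surjective r :=
    fun {E} hE e => by
      haveI := hcount (DGen9.isQCohD_of_isPerfect hE) (csec_of_isPerfect hX hE)
      haveI : Nonempty (Ker G e) := ⟨⟨0, 0, zero_comp⟩⟩
      exact exists_surjective_nat _
  have step : ∀ (s : St G K) (m : ℕ), ∃ (s' : St G K) (t : s.E ⟶ s'.E) (ht : t ≫ s'.e = s.e),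
      (s.todo m.unpair.1 m.unpair.2).2.1 ≫ t = 0 ∧ (∃ a, a ≫ s'.e = (g m).2) ∧
      Function.Surjective (s'.todo (m + 1)) ∧
      ∀ j k, j ≠ m + 1 → s'.todo j k = Ker.push G t ht (s.todo j k) := by
    intro s m
    let y := s.todo m.unpair.1 m.unpair.2
    obtain ⟨E₁, q, r, hT⟩ := distinguished_cocone_triangle y.2.1
    obtain ⟨e₁, he₁⟩ : ∃ e₁ : E₁ ⟶ K, s.e = q ≫ e₁ := Triangle.yoneda_exact₂ _ hT s.e y.2.2
    have hE₁ : DCoh.IsPerfect E₁ := DGen9.isPerfect_obj₃ _ hT (hGn _) s.perf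
    let e₂ := biprod.desc e₁ (g m).2
    have hE₂ : DCoh.IsPerfect (E₁ ⊞ G⟦(g m).1⟧) :=
      DGen9.isPerfect_obj₂ _ (binaryBiproductTriangle_distinguished E₁ (G⟦(g m).1⟧)) hE₁ (hGn _)
    have ht : (q ≫ biprod.inl) ≫ e₂ = s.e := by rw [Category.assoc, biprod.inl_desc, ← he₁]
    obtain ⟨r₂, hr₂⟩ := henum hE₂ e₂
    refine ⟨⟨_, e₂, hE₂, fun j k => if j = m + 1 then r₂ k else Ker.push G _ ht (s.todo j k)⟩, q ≫ biprod.inl, ht,
      ?_, ⟨biprod.inr, biprod.inr_desc _ _⟩, fun p => ?_, fun j k hj => if_neg hj⟩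
    · rw [← Category.assoc, show y.2.1 ≫ q = 0 from comp_distTriang_mor_zero₁₂ _ hT, zero_comp]
    · obtain ⟨k, hk⟩ := hr₂ p
      exact ⟨k, (if_pos rfl).trans hk⟩
  choose nxt t ht hkill hsurj henum' hpush using step
  have h00 : DCoh.IsPerfect (0 : DCoh.D X) := PerfPush9.isPerfect_zero (isZero_zero _)
  obtain ⟨r₀, hr₀⟩ := henum h00 0
  let seq : ℕ → St G K := fun n => Nat.rec ⟨0, 0, h00, fun _ => r₀⟩ (fun n s => nxt s n) n
  let F : ℕ ⥤ DCoh.D X := Functor.ofSequence (X := fun n => (seq n).E) fun n => t (seq n) n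
  have hFmap : ∀ n, F.map (homOfLE (Nat.le_succ n)) = t (seq n) n := fun n => Functor.ofSequence_map_homOfLE_succ _ n
  have hperf : ∀ n, DCoh.IsPerfect (F.obj n) := fun n => (seq n).perf
  have hQ : ∀ n, DCoh.IsQCohD (F.obj n) := fun n => DGen9.isQCohD_of_isPerfect (hperf n)
  have hen : ∀ n, Function.Surjective ((seq n).todo n) := fun n => by
    cases n with
    | zero => exact hr₀
    | succ n => exact henum' (seq n) n
  have htodo : ∀ n k l (h : n ≤ l), ∃ hh : F.map (homOfLE h) ≫ (seq l).e = (seq n).e,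
      (seq l).todo n k = Ker.push G (F.map (homOfLE h)) hh ((seq n).todo n k) := by
    intro n k l h
    induction l, h using Nat.le_induction with
    | base =>
      have h1 : F.map (homOfLE (le_refl n)) = 𝟙 _ := F.map_id n
      refine ⟨by rw [h1]; exact Category.id_comp _, Sigma.ext rfl (heq_of_eq (Subtype.ext ?_))⟩
      show _ = _ ≫ F.map _
      rw [h1]
      exact (Category.comp_id _).symm
    | succ l hl ih =>
      obtain ⟨hh, hih⟩ := ih
      have h1 : F.map (homOfLE (hl.trans (Nat.le_succ l))) = F.map (homOfLE hl) ≫ t (seq l) l := by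
        rw [← hFmap l, ← F.map_comp]; rfl
      refine ⟨by rw [h1, Category.assoc]; exact (congrArg (_ ≫ ·) (ht (seq l) l)).trans hh, ?_⟩
      refine (hpush (seq l) l n k (by omega)).trans ?_
      rw [hih]
      refine Sigma.ext rfl (heq_of_eq (Subtype.ext ?_))
      dsimp only [Ker.push]
      rw [h1, Category.assoc]
  obtain ⟨L, q, r, hL₀⟩ := distinguished_cocone_triangle
    (𝟙 (∐ F.obj) - DerLim.shiftMap F.obj fun n => F.map (homOfLE (Nat.le_succ n)))
  let j : ∀ n, F.obj n ⟶ L := fun n => Sigma.ι F.obj n ≫ q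
  have hq : q = Sigma.desc j := Sigma.hom_ext _ _ fun n => by simp [j]
  have hL : DerLim.IsHocolim F.obj (fun n => F.map (homOfLE (Nat.le_succ n))) L j := ⟨r, hq ▸ hL₀⟩
  have hj : ∀ n, t (seq n) n ≫ j (n + 1) = j n := fun n => by
    have h1 := congrArg (fun z => Sigma.ι F.obj n ≫ z) (comp_distTriang_mor_zero₁₂ _ hL₀)
    simp [DerLim.shiftMap, Preadditive.sub_comp, Preadditive.comp_sub, sub_eq_zero] at h1
    rw [← hFmap n]
    exact h1.symm.trans (congrArg (_ ≫ ·) (Category.id_comp _))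
  have hjj : ∀ n l (h : n ≤ l), F.map (homOfLE h) ≫ j l = j n := fun n l h => by
    induction l, h using Nat.le_induction with
    | base => rw [show F.map (homOfLE (le_refl n)) = 𝟙 _ from F.map_id n]; exact Category.id_comp _
    | succ l hl ih =>
      rw [show F.map (homOfLE (hl.trans (Nat.le_succ l))) = F.map (homOfLE hl) ≫ t (seq l) l by
        rw [← hFmap l, ← F.map_comp]; rfl, Category.assoc]
      exact (congrArg (_ ≫ ·) (hj l)).trans ih
  obtain ⟨φ, hφ⟩ : ∃ φ : L ⟶ K, Sigma.desc (fun n => ((seq n).e : F.obj n ⟶ K)) = q ≫ φ := by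
    refine Triangle.yoneda_exact₂ _ hL₀ _ (Sigma.hom_ext _ _ fun n => ?_)
    simp only [DerLim.shiftMap, Preadditive.sub_comp, Category.id_comp, Preadditive.comp_sub, Sigma.ι_desc,
      Sigma.ι_desc_assoc, Category.assoc, comp_zero, sub_eq_zero, Triangle.mk_mor₁]
    rw [hFmap n]
    erw [Category.id_comp]
    rw [Sigma.ι_desc]
    exact (ht (seq n) n).symm
  have hjφ : ∀ n, j n ≫ φ = (seq n).e := fun n => by rw [Category.assoc, ← hφ, Sigma.ι_desc]
  have hb : ∀ n : ℤ, Function.Bijective fun y : G⟦n⟧ ⟶ L => y ≫ φ := fun n => by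
    refine ⟨fun a b hab => sub_eq_zero.1 ?_, fun x => ?_⟩
    · have H := DCompact9.hom_hocolim F hL (G⟦n⟧) (finFac_nat (DGen9.qFin_of_isPerfect (hGn n)) _ hQ)
        (finFac_nat (DGen9.qFin_of_isPerfect (DGen9.isPerfect_shiftD (hGn n) (-1))) _ hQ)
      obtain ⟨k, y, hy⟩ := H.1 (a - b)
      have hy0 : y ≫ (seq k).e = 0 := by
        rw [← hjφ k, ← Category.assoc, hy, Preadditive.sub_comp]
        exact sub_eq_zero.2 hab
      obtain ⟨c, hc⟩ := hen k ⟨n, y, hy0⟩
      obtain ⟨hh, hp⟩ := htodo k c (Nat.pair k c) (Nat.left_le_pair k c)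
      have h0 := hkill (seq (Nat.pair k c)) (Nat.pair k c)
      rw [Nat.unpair_pair] at h0
      dsimp only at h0
      rw [hp, hc] at h0
      rw [← hy, ← hjj k _ (Nat.left_le_pair k c), ← hj (Nat.pair k c)]
      simp only [← Category.assoc]
      exact (congrArg (· ≫ _) h0).trans zero_comp
    · obtain ⟨m, hm⟩ := hg ⟨n, x⟩
      have ha := hsurj (seq m) m
      rw [hm] at ha
      obtain ⟨a, ha⟩ := ha
      exact ⟨a ≫ j (m + 1), by
        show (a ≫ j (m + 1)) ≫ φ = x
        rw [Category.assoc, hjφ]; exact ha⟩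
  obtain ⟨Z, p, s, hT⟩ := distinguished_cocone_triangle φ
  have hsum : DCoh.IsQCohD (∐ F.obj) := by
    haveI := DGen9.hasCoproducts_D X (ULift.{u} ℕ)
    exact DQC.isQCohD_of_iso (Sigma.whiskerEquiv (f := fun k : ULift.{u} ℕ => F.obj k.down) (g := F.obj) Equiv.ulift
      fun _ => Iso.refl _) (DPerf.isQCohD_sigma _ fun k => hQ k.down)
  have hZ : DCoh.IsQCohD Z := DPush.isQCohD_obj₃ _ hT (DPush.isQCohD_obj₃ _ hL₀ hsum hsum) hK
  haveI : LocallySmall.{u} (DCoh.D X) := RHom.locallySmall_derivedCategory X.Modules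
  haveI : ∀ κ : Type u, HasColimitsOfShape (Discrete κ) (DCoh.D X) := DGen9.hasCoproducts_D X
  haveI : IsIso φ := (Triangle.isZero₃_iff_isIso₁ _ hT).1
    ((hgen Z hZ (DGen9.suppOn_univ Z)).2 (DGen9.eq_zero_of_bijective.{u} hT hb))
  refine ⟨F.obj, fun n => F.map (homOfLE (Nat.le_succ n)), fun n => (seq n).e, hperf, inv φ ≫ r, ?_⟩
  refine isomorphic_distinguished _ hL₀ _ (Triangle.isoMk _ _ (Iso.refl _) (Iso.refl _) (asIso φ).symm ?_ ?_ ?_)
  · simp
  · change Sigma.desc _ ≫ inv φ = 𝟙 _ ≫ q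
    refine (congrArg (· ≫ inv φ) hφ).trans ?_
    rw [Category.assoc, IsIso.hom_inv_id, Category.comp_id, Category.id_comp]
  · change (inv φ ≫ r) ≫ (shiftFunctor _ 1).map (𝟙 _) = inv φ ≫ r
    simp

end Groth.Agent.CountD9
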